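import Groth.Agent.PicAlgzLib.System
import Groth.Agent.S0058
import Groth.Agent.DegPullLib.H0
import Groth.Agent.TwistLib.ProjSymExt
import Groth.Agent.PicTorsLib.Thicken

/-!
# A line bundle trivial on all thickenings of the closed fibre is trivial
-/

set_option autoImplicit false
set_option linter.style.haveILetI false
set_option maxHeartbeats 1000000
universe u

open CategoryTheory CategoryTheory.Limits AlgebraicGeometry TopologicalSpace Opposite
open AmpleLib
open KFlatLib (pb puSec)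
open PicAlgzLib (incl)

noncomputable section

namespace ThickTrivLib

theorem e0_map {X : Scheme.{u}} {M N : X.Modules} (φ : M ⟶ N) (x : Coh.HH X M 0) :
    DegPullLib.e0 N (Sheaf.H.map ((SheafOfModules.toSheaf X.ringCatSheaf).map φ) 0 x) =
      φ.app ⊤ (DegPullLib.e0 M x) := by
  have h1 := QCohLib.hEquiv_map ((QCohLib.toAbF X).map φ) 0 x
  have h2 := QCohLib.h0_comp (QCohLib.hEquiv ((QCohLib.toAbF X).obj M) 0 x) ((QCohLib.toAbF X).map φ)
  exact (congrArg (QCohLib.h0 (U := (⊤ : Opens X.toTopCat))) h1).trans h2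

/-- A multiple of a generator generates where its pullback does. -/
theorem genAt_of_puSec_smul {X Y : Scheme.{u}} (g : X ⟶ Y) {M : Y.Modules} {U : Y.Opens} {e : Γ(M, U)}
    (he : GenOn M e) (c : Γ(Y, U)) {x : X} (hx : g x ∈ U) :
    GenAt (pb g M) (W := g ⁻¹ᵁ U) (puSec g (c • e)) (show x ∈ g ⁻¹ᵁ U from hx) ↔ GenAt M (c • e) hx := by
  rw [TwistLib.puSec_smul, genAt_smul_iff _ _ (show x ∈ g ⁻¹ᵁ U from hx) (TwistLib.GenAt.puSec g (he.genAt hx)),
    ← Scheme.preimage_basicOpen, genAt_smul_iff c e hx (he.genAt hx)]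
  rfl

variable {A : Type u} [CommRing A] [IsNoetherianRing A] [IsLocalRing A] {Y : Scheme.{u}}
  (f : Y ⟶ Spec (CommRingCat.of A)) [IsProper f]

/-- **Triviality on all thickenings of the closed fibre.** -/
theorem trivial_of_thickenings {L : Y.Modules} (hL : PicF.IsInvertible L)
    (hn : ∀ n : ℕ, Nonempty (pb (incl (IsLocalRing.maximalIdeal A) f n) L ≅ Coh.structureModule _)) :
    Nonempty (L ≅ Coh.structureModule Y) := by
  classical
  letI : Y.Over (Spec (CommRingCat.of A)) := ⟨f⟩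
  haveI : IsProper (Y ↘ Spec (CommRingCat.of A)) := ‹IsProper f›
  haveI : IsLocallyNoetherian Y := LocallyOfFiniteType.isLocallyNoetherian f
  haveI : CompactSpace Y := QuasiCompact.compactSpace_of_compactSpace f
  haveI : AlgebraicGeometry.IsNoetherian Y := {}
  let m := IsLocalRing.maximalIdeal A
  have hLc : Coh.IsCoh L := CurvLib.isCoh_of_isInvertible hL
  haveI := hLc.1
  let ι := fun n => incl m f n
  have hz := fun n => fun b (hb : b ∈ m ^ (n + 1)) => GrSysLib.toGlobal_eq_zero (PicAlgzLib.thickOf m f) n hb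
  have hδ : ∀ n, ∃ δ : Formal.modPow m (n + 1) L ≅ (Scheme.Modules.pushforward (ι n)).obj (pb (ι n) L),
      Formal.modPowπ m (n + 1) L ≫ δ.hom = (Scheme.Modules.pullbackPushforwardAdjunction (ι n)).unit.app L := by
    intro n
    have hi := GrSysLib.isIso_desc_unit (ι n) (PicAlgzLib.incl_over m f n) _ (hz n) (PicAlgzLib.ker_incl_le m f n) L
    exact ⟨@asIso _ _ _ _ _ hi, cokernel.π_desc _ _ _⟩
  choose δ hδ using hδ
  obtain ⟨c, hc⟩ := Groth.Agent.S0058.result A m Y L hLc 0
  obtain ⟨τ⟩ := hn c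
  let g0 : Γ(pb (ι c) L, (⊤ : ((PicAlgzLib.thickOf m f).X c).Opens)) :=
    τ.inv.app ⊤ (show Γ(Coh.structureModule ((PicAlgzLib.thickOf m f).X c), ⊤) from (1 : Γ((PicAlgzLib.thickOf m f).X c, ⊤)))
  have hg0 : GenOn (pb (ι c) L) g0 := PicTorsLib.genOn_iso τ.symm (one_genOn ⊤)
  let z : Γ(Formal.modPow m (c + 1) L, ⊤) := (δ c).inv.app ⊤ g0
  let t := (Formal.completion m L).map (homOfLE (Nat.zero_le c)).op
  have ht : Formal.modPowπ m (c + 1) L ≫ t = Formal.modPowπ m (0 + 1) L :=
    FormalLib.modPowπ_completion m L (Nat.zero_le c)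
  obtain ⟨x, hx⟩ := (hc 0 c (Nat.zero_le c) (by omega)).subset
    ⟨(DegPullLib.e0 (Formal.modPow m (c + 1) L)).symm z, rfl⟩
  let s := DegPullLib.e0 L x
  have hs : (Formal.modPowπ m (0 + 1) L).app ⊤ s = t.app ⊤ z := by
    have h1 := congrArg (DegPullLib.e0 (Formal.modPow m (0 + 1) L)) hx
    rw [show DegPullLib.e0 (Formal.modPow m (0 + 1) L) (Formal.toHHmodPow m L 0 0 x) =
      (Formal.modPowπ m (0 + 1) L).app ⊤ s from e0_map _ x] at h1
    refine h1.trans ((e0_map t _).trans ?_)
    exact congrArg (t.app ⊤) (AddEquiv.apply_symm_apply _ _)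
  -- generation on the closed fibre
  have main : ∀ y : Y, m ≤ (f y).asIdeal → GenAt L s (show y ∈ (⊤ : Y.Opens) from trivial) := by
    intro y hy
    obtain ⟨w, hw⟩ := PicAlgzLib.mem_range_incl m f 0 y hy
    obtain ⟨w', hw'⟩ := PicAlgzLib.mem_range_incl m f c y hy
    obtain ⟨U₀, e₀, hyU₀, he₀⟩ := TwistLib.exists_genOn hL y
    obtain ⟨U, hU, hyU, hUU₀⟩ := exists_isAffineOpen_mem_and_subset (U := U₀) (x := y) hyU₀
    let e := res L hUU₀ e₀
    have he : GenOn L e := he₀.res hUU₀
    have he' : GenOn (pb (ι c) L) (puSec (ι c) e) :=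
      TwistLib.genOn_of_genAt fun p hp => TwistLib.GenAt.puSec (ι c) (he.genAt hp)
    obtain ⟨r, hr⟩ := (he' _ le_rfl).2 (res (pb (ι c) L) le_top g0)
    dsimp only at hr
    rw [res_refl] at hr
    obtain ⟨r', rfl⟩ := (ι c).app_surjective U hU r
    let l : Γ(L, U) := r' • e
    have hl : puSec (ι c) l = res (pb (ι c) L) le_top g0 := by
      rw [TwistLib.puSec_smul]; exact hr
    have hly : GenAt L l hyU := by
      subst hw'
      refine (genAt_of_puSec_smul (ι c) he r' hyU).1 ?_
      rw [hl, genAt_res]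
      exact hg0.genAt trivial
    have hlz : (Formal.modPowπ m (c + 1) L).app U l = res (Formal.modPow m (c + 1) L) le_top z := by
      refine (ConcreteCategory.bijective_of_isIso ((δ c).hom.app U)).1 ?_
      refine ((congrArg (fun φ : L ⟶ _ => φ.app U l) (hδ c)).trans ?_)
      refine hl.trans ?_
      show _ = (δ c).hom.app U ((Formal.modPow m (c + 1) L).presheaf.map (homOfLE le_top).op z)
      rw [QCohLib.app_map]
      show _ = ((Scheme.Modules.pushforward (ι c)).obj (pb (ι c) L)).presheaf.map _ ((δ c).hom.app ⊤ ((δ c).inv.app ⊤ g0))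
      rw [show (δ c).hom.app ⊤ ((δ c).inv.app ⊤ g0) = g0 from congrArg (fun φ : (Scheme.Modules.pushforward (ι c)).obj (pb (ι c) L) ⟶ _ => φ.app ⊤ g0) (δ c).inv_hom_id]
      rfl
    have hsl : (Formal.modPowπ m (0 + 1) L).app U (res L le_top s) = (Formal.modPowπ m (0 + 1) L).app U l := by
      refine (QCohLib.app_map (Formal.modPowπ m (0 + 1) L) (homOfLE le_top) s).trans ?_
      rw [hs]
      refine (QCohLib.app_map t (homOfLE le_top) z).symm.trans ?_
      refine (congrArg (t.app U) hlz.symm).trans ?_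
      exact congrArg (fun φ : L ⟶ _ => φ.app U l) ht
    have h0 : puSec (ι 0) (res L le_top s : Γ(L, U)) = puSec (ι 0) l := by
      have h1 := congrArg ((δ 0).hom.app U) hsl
      have h2 : ∀ v : Γ(L, U), (δ 0).hom.app U ((Formal.modPowπ m (0 + 1) L).app U v) = puSec (ι 0) v :=
        fun v => congrArg (fun φ : L ⟶ _ => φ.app U v) (hδ 0)
      rwa [h2, h2] at h1
    subst hw
    rw [← genAt_res (le_top : U ≤ ⊤) s hyU]
    obtain ⟨r'', hr''⟩ := (he U le_rfl).2 (res L le_top s)
    dsimp only at hr''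
    rw [res_refl] at hr''
    rw [← hr'']
    refine (genAt_of_puSec_smul (ι 0) he r'' hyU).1 ?_
    rw [hr'', h0]
    exact TwistLib.GenAt.puSec (ι 0) hly
  -- generation everywhere
  have hall : ∀ y : Y, GenAt L s (show y ∈ (⊤ : Y.Opens) from trivial) := by
    by_contra hne
    push_neg at hne
    obtain ⟨y, hy⟩ := hne
    obtain ⟨y', hy', hyc⟩ := (TwistLib.isOpen_genAt hL s).isClosed_compl.exists_closed_singleton ⟨y, hy⟩
    refine hy' (main y' ?_)
    have h1 : IsClosed ({f y'} : Set (Spec (CommRingCat.of A))) := by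
      rw [← Set.image_singleton]; exact f.isClosedMap _ hyc
    haveI := (PrimeSpectrum.isClosed_singleton_iff_isMaximal (f y')).1 h1
    exact (IsLocalRing.eq_maximalIdeal this).ge
  haveI := isIso_unitHom s (TwistLib.genOn_of_genAt fun y _ => hall y)
  exact ⟨(asIso (QCohLib.unitHom L s)).symm⟩

end ThickTrivLib

end
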